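import Groth.Agent.QCohLib.Exact
import Groth.Agent.ProjCoh.PSData

/-!
# Finiteness in short exact sequences
-/

set_option autoImplicit false

universe u

open CategoryTheory CategoryTheory.Limits AlgebraicGeometry TopologicalSpace Opposite

noncomputable section

namespace Groth.Agent.ProperFin

variable {X : Scheme.{u}} {A : Type u} [CommRing A] (ψ : A →+* Coh.Γtop X)

/-- All cohomology modules are finite. -/
def AllFin (M : X.Modules) : Prop :=
  ∀ n, @Module.Finite A (Coh.HH X M n) _ _ (Module.compHom (Coh.HH X M n) ψ)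

theorem AllFin.of_iso {M N : X.Modules} (e : M ≅ N) (h : AllFin ψ M) : AllFin ψ N :=
  fun n => ProjCoh.finite_compHom_of_iso ψ e n (h n)

/-- The action of a function on a short exact sequence. -/
def smulSeq (S : ShortComplex X.Modules) (r : Coh.Γtop X) :
    S.map (QCohLib.toAbF X) ⟶ S.map (QCohLib.toAbF X) :=
  ⟨Coh.smulAb S.X₁ r, Coh.smulAb S.X₂ r, Coh.smulAb S.X₃ r,
    ProjCoh.smulAb_natural S.f r, ProjCoh.smulAb_natural S.g r⟩

variable [IsNoetherianRing A]

/-- Two out of three. -/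
theorem allFin_two_three (S : ShortComplex X.Modules) (hS : S.ShortExact) :
    (AllFin ψ S.X₁ → AllFin ψ S.X₂ → AllFin ψ S.X₃) ∧
      (AllFin ψ S.X₁ → AllFin ψ S.X₃ → AllFin ψ S.X₂) ∧
        (AllFin ψ S.X₂ → AllFin ψ S.X₃ → AllFin ψ S.X₁) := by
  letI (M : X.Modules) (n : ℕ) : Module A (Coh.HH X M n) := Module.compHom (Coh.HH X M n) ψ
  have hS' := QCohLib.toAb_shortExact hS
  let F : ∀ {M N : X.Modules} (f : M ⟶ N) (n : ℕ), Coh.HH X M n →ₗ[A] Coh.HH X N n := fun {M N} f n =>
    { toFun := Sheaf.H.map ((QCohLib.toAbF X).map f) n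
      map_add' := map_add _
      map_smul' := fun a x => by
        show Sheaf.H.map _ n (Sheaf.H.map (Coh.smulAb M (ψ a)) n x) =
          Sheaf.H.map (Coh.smulAb N (ψ a)) n (Sheaf.H.map _ n x)
        rw [← Sheaf.H.map_comp_apply, ← Sheaf.H.map_comp_apply]
        exact congrArg (fun k => Sheaf.H.map k n x) (ProjCoh.smulAb_natural f (ψ a)) }
  let δ : ∀ n : ℕ, Coh.HH X S.X₃ n →ₗ[A] Coh.HH X S.X₁ (n + 1) := fun n =>
    { toFun := hS'.extClass.postcomp _ rfl
      map_add' := map_add _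
      map_smul' := fun a x => by
        show (x.comp (Abelian.Ext.mk₀ (Coh.smulAb S.X₃ (ψ a))) (add_zero n)).comp hS'.extClass rfl =
          (x.comp hS'.extClass rfl).comp (Abelian.Ext.mk₀ (Coh.smulAb S.X₁ (ψ a))) (add_zero (n + 1))
        rw [Abelian.Ext.comp_assoc_of_second_deg_zero, Abelian.Ext.comp_assoc_of_third_deg_zero]
        exact congrArg (fun e => x.comp e rfl)
          (ShortComplex.ShortExact.extClass_naturality hS' hS' (smulSeq S (ψ a))).symm }
  have e2 : ∀ n, LinearMap.range (F S.f n) = LinearMap.ker (F S.g n) := fun n => by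
    refine le_antisymm ?_ fun x hx => Abelian.Ext.covariant_sequence_exact₂ _ hS' x hx
    rintro _ ⟨x, rfl⟩
    show Sheaf.H.map _ n (Sheaf.H.map _ n x) = 0
    rw [← Sheaf.H.map_comp_apply]
    refine Eq.trans (congrArg (fun k => Sheaf.H.map k n x) (S.map (QCohLib.toAbF X)).zero) ?_
    show x.comp (Abelian.Ext.mk₀ 0) (add_zero n) = 0
    rw [Abelian.Ext.mk₀_zero, Abelian.Ext.comp_zero]
  have e3 : ∀ n, LinearMap.range (F S.g n) = LinearMap.ker (δ n) := fun n => by
    refine le_antisymm ?_ fun x hx => Abelian.Ext.covariant_sequence_exact₃ _ hS' x rfl hx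
    rintro _ ⟨x, rfl⟩
    show (x.comp (Abelian.Ext.mk₀ (S.map (QCohLib.toAbF X)).g) (add_zero n)).comp hS'.extClass rfl = 0
    refine (Abelian.Ext.comp_assoc_of_second_deg_zero _ _ _ _).trans ?_
    exact (congrArg (fun e => x.comp e rfl) hS'.comp_extClass).trans (Abelian.Ext.comp_zero _ _ _ _ _)
  have e1 : ∀ n, LinearMap.range (δ n) = LinearMap.ker (F S.f (n + 1)) := fun n => by
    refine le_antisymm ?_ fun x hx => Abelian.Ext.covariant_sequence_exact₁ _ hS' x hx rfl
    rintro _ ⟨x, rfl⟩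
    show (x.comp hS'.extClass rfl).comp (Abelian.Ext.mk₀ (S.map (QCohLib.toAbF X)).f) (add_zero (n + 1)) = 0
    refine (Abelian.Ext.comp_assoc_of_third_deg_zero _ _ _ _).trans ?_
    exact (congrArg (fun e => x.comp e rfl) hS'.extClass_comp).trans (Abelian.Ext.comp_zero _ _ _ _ _)
  have key : ∀ {M N P : Type u} [AddCommGroup M] [AddCommGroup N] [AddCommGroup P] [Module A M]
      [Module A N] [Module A P] (f : M →ₗ[A] N) (g : N →ₗ[A] P), LinearMap.range f = LinearMap.ker g →
      Module.Finite A M → Module.Finite A P → Module.Finite A N := by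
    intro M N P _ _ _ _ _ _ f g h hM hP
    haveI := isNoetherian_of_range_eq_ker f g h
    infer_instance
  refine ⟨fun h1 h2 n => key (F S.g n) (δ n) (e3 n) (h2 n) (h1 (n + 1)),
    fun h1 h3 n => key (F S.f n) (F S.g n) (e2 n) (h1 n) (h3 n), fun h2 h3 n => ?_⟩
  cases n with
  | zero =>
    haveI := hS'.mono_f
    haveI : Module.Finite A (Coh.HH X S.X₂ 0) := h2 0
    refine Module.Finite.of_injective (F S.f 0) fun a b h => ?_
    exact Abelian.Ext.postcomp_mk₀_injective_of_mono _ (S.map (QCohLib.toAbF X)).f h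
  | succ n => exact key (δ n) (F S.f (n + 1)) (e1 n) (h3 n) (h2 (n + 1))

end Groth.Agent.ProperFin
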