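import Groth.Agent.ProperFin.PushHH

/-!
# Direct images through a finite acyclic covering
-/

set_option autoImplicit false

universe u

open CategoryTheory CategoryTheory.Limits AlgebraicGeometry TopologicalSpace Opposite
open Groth.Agent.CohBase

noncomputable section

namespace Groth.Agent.ProperFin

variable {X Y : Scheme.{u}} (g : X ⟶ Y) (M : X.Modules) {ι : Type u} (V : ι → Y.Opens)

/-- The covering upstairs. -/
abbrev preCov : ι → X.Opens := fun a => g ⁻¹ᵁ V a

lemma inter_preCov {n : ℕ} (i : Fin (n + 1) → ι) : g ⁻¹ᵁ inter V i = inter (preCov g V) i := by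
  refine le_antisymm (le_iInf fun a x hx => inter_le V i a hx) fun x hx => ?_
  refine (mem_inter_iff V).2 fun a => ?_
  exact inter_le (preCov g V) i a hx

/-- Cochains upstairs as cochains of the direct image. -/
def toPushCC (n : ℕ) :
    CC (preCov g V) (Coh.toAb M).obj n ≃+
      CC V (Coh.toAb ((Scheme.Modules.pushforward g).obj M)).obj n where
  toFun c i := (res (Coh.toAb M).obj (inter_preCov g V i).le (c i) :)
  invFun c i := res (Coh.toAb M).obj (inter_preCov g V i).ge
    (show (Coh.toAb M).obj.obj (op (g ⁻¹ᵁ inter V i)) from c i)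
  left_inv c := funext fun i => by
    show res (Coh.toAb M).obj _ (res (Coh.toAb M).obj _ (c i)) = c i
    rw [res_res, res_self]
  right_inv c := funext fun i => by
    show res (Coh.toAb M).obj _ (res (Coh.toAb M).obj _ _) = _
    rw [res_res, res_self]
  map_add' a b := funext fun i => map_add (res (Coh.toAb M).obj (inter_preCov g V i).le) _ _

lemma cdiff_toPushCC (n : ℕ) (c : CC (preCov g V) (Coh.toAb M).obj n) :
    cdiff V (Coh.toAb ((Scheme.Modules.pushforward g).obj M)).obj n (toPushCC g M V n c) =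
      toPushCC g M V (n + 1) (cdiff (preCov g V) (Coh.toAb M).obj n c) := by
  funext i
  show _ = res (Coh.toAb M).obj (inter_preCov g V i).le (cdiff (preCov g V) (Coh.toAb M).obj n c i)
  rw [cdiff_apply, cdiff_apply, map_sum]
  refine Finset.sum_congr rfl fun k _ => ?_
  rw [map_zsmul]
  refine congrArg (fun w => (-1 : ℤ) ^ (k : ℕ) • w) ?_
  show res (Coh.toAb M).obj _ (res (Coh.toAb M).obj _ (c (i ∘ k.succAbove))) =
    res (Coh.toAb M).obj _ (res (Coh.toAb M).obj _ (c (i ∘ k.succAbove)))
  rw [res_res, res_res]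

lemma toPushCC_smul (n : ℕ) (r : Coh.Γtop Y) (c : CC (preCov g V) (Coh.toAb M).obj n) :
    toPushCC g M V n (ccMap (preCov g V) (Coh.smulAb M (gTop g r)).hom n c) =
      ccMap V (Coh.smulAb ((Scheme.Modules.pushforward g).obj M) r).hom n (toPushCC g M V n c) := by
  rw [smulAb_push]
  funext i
  exact res_map (Coh.smulAb M (gTop g r)).hom _ _

/-- Finiteness of the cohomology of a direct image from a covering acyclic on both sides. -/
theorem finite_push_of_cover (hcov : (⊤ : Y.Opens) ≤ iSup V)
    (hX : Acyclic (preCov g V) (Coh.toAb M))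
    (hY : Acyclic V (Coh.toAb ((Scheme.Modules.pushforward g).obj M)))
    {A : Type u} [CommRing A] (ψ : A →+* Coh.Γtop Y) (n : ℕ)
    (hfin : @Module.Finite A (Coh.HH X M n) _ _ (Module.compHom (Coh.HH X M n) ((gTop g).comp ψ))) :
    @Module.Finite A (Coh.HH Y ((Scheme.Modules.pushforward g).obj M) n) _ _
      (Module.compHom (Coh.HH Y ((Scheme.Modules.pushforward g).obj M) n) ψ) := by
  have hcovX : (⊤ : X.Opens) ≤ iSup (preCov g V) := fun x _ => by
    obtain ⟨a, ha⟩ := Opens.mem_iSup.1 (hcov (show g x ∈ (⊤ : Y.Opens) from trivial))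
    exact Opens.mem_iSup.2 ⟨a, ha⟩
  obtain ⟨ΦX, hXs, hXk, hXn⟩ := hasComparisonNat (preCov g V) hcovX hX n
  obtain ⟨ΦY, hYs, hYk, hYn⟩ := hasComparisonNat V hcov hY n
  let θ : Zc (preCov g V) (Coh.toAb M).obj n →+
      Zc V (Coh.toAb ((Scheme.Modules.pushforward g).obj M)).obj n :=
    ((toPushCC g M V n).toAddMonoidHom.comp (AddSubgroup.subtype _)).codRestrict _ fun z => by
      show cdiff _ _ n (toPushCC g M V n z.1) = 0
      rw [cdiff_toPushCC, show cdiff _ _ n z.1 = 0 from z.2, map_zero]
  have hθs : Function.Surjective θ := fun z => by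
    obtain ⟨c, hc⟩ := (toPushCC g M V n).surjective z.1
    refine ⟨⟨c, (toPushCC g M V (n + 1)).injective ?_⟩, Subtype.ext hc⟩
    rw [map_zero, ← cdiff_toPushCC, hc]
    exact z.2
  obtain ⟨L, hL⟩ := addMonoidHom_descend ΦX hXs (ΦY.comp θ) fun z hz => by
    refine (hYk _).2 ?_
    have hb := (hXk z).1 hz
    cases n with
    | zero =>
      show toPushCC g M V 0 z.1 ∈ Bc V (Coh.toAb ((Scheme.Modules.pushforward g).obj M)).obj 0
      rw [show z.1 = 0 from hb, map_zero]
      exact zero_mem _
    | succ n =>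
      obtain ⟨b, hb⟩ := hb
      exact ⟨toPushCC g M V n b, (cdiff_toPushCC g M V n b).trans (congrArg _ hb)⟩
  letI := Module.compHom (Coh.HH X M n) ((gTop g).comp ψ)
  letI := Module.compHom (Coh.HH Y ((Scheme.Modules.pushforward g).obj M) n) ψ
  haveI : Module.Finite A (Coh.HH X M n) := hfin
  let eX := HHEquiv M n
  let eY := HHEquiv ((Scheme.Modules.pushforward g).obj M) n
  let l : Coh.HH X M n →ₗ[A] Coh.HH Y ((Scheme.Modules.pushforward g).obj M) n :=
    { toFun := fun x => eY.symm (L (eX x))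
      map_add' := fun a b => by rw [map_add, map_add, map_add]
      map_smul' := fun a x => by
        apply eY.injective
        rw [AddEquiv.apply_symm_apply]
        show L (HHEquiv M n (Sheaf.H.map (Coh.smulAb M (gTop g (ψ a))) n x)) =
          HHEquiv _ n (Sheaf.H.map (Coh.smulAb ((Scheme.Modules.pushforward g).obj M) (ψ a)) n
            ((HHEquiv _ n).symm (L (eX x))))
        rw [show HHEquiv M n = HEquiv (Coh.toAb M) n from rfl, HEquiv_map,
          show HHEquiv ((Scheme.Modules.pushforward g).obj M) n =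
            HEquiv (Coh.toAb ((Scheme.Modules.pushforward g).obj M)) n from rfl, HEquiv_map,
          AddEquiv.apply_symm_apply]
        show L (hmap ⊤ _ n (eX x)) = hmap ⊤ _ n (L (eX x))
        obtain ⟨z, hz⟩ := hXs (eX x)
        rw [← hz, ← hXn (Coh.smulAb M (gTop g (ψ a))) z
          ⟨_, ccMap_mem_Zc (preCov g V) _ z⟩ rfl, hL, hL]
        exact hYn _ _ _ (toPushCC_smul g M V n (ψ a) z.1) }
  refine Module.Finite.of_surjective l fun y => ?_
  obtain ⟨z, hz⟩ := hYs (eY y)
  obtain ⟨w, rfl⟩ := hθs z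
  refine ⟨eX.symm (ΦX w), eY.injective ?_⟩
  show eY (eY.symm (L (eX (eX.symm (ΦX w))))) = eY y
  rw [AddEquiv.apply_symm_apply, AddEquiv.apply_symm_apply, hL]
  exact hz

end Groth.Agent.ProperFin
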