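import Mathlib.AlgebraicGeometry.Morphisms.ClosedImmersion
import Mathlib.AlgebraicGeometry.Pullbacks

/-!
# Functions on an affine scheme closed in a fibre product
-/

set_option autoImplicit false

universe u

open CategoryTheory CategoryTheory.Limits AlgebraicGeometry

noncomputable section

namespace Groth.Agent.ProperFin

lemma hom_ext_affine {X S : Scheme.{u}} [IsAffine S] {f g : X ⟶ S} (h : f.appTop = g.appTop) : f = g :=
  AlgebraicGeometry.ext_of_isAffine h

/-- An affine scheme closed in a fibre product of affines: functions come from the factors. -/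
theorem appTop_mem_closure {T W V S : Scheme.{u}} [IsAffine T] [IsAffine W] [IsAffine V] [IsAffine S]
    (a : T ⟶ W) (b : T ⟶ V) (w : W ⟶ S) (v : V ⟶ S) (e : a ≫ w = b ≫ v)
    [IsClosedImmersion (pullback.lift a b e)] (s : Γ(T, ⊤)) :
    s ∈ Subring.closure (Set.range a.appTop ∪ Set.range b.appTop) := by
  let C : Subring Γ(T, ⊤) := Subring.closure (Set.range a.appTop ∪ Set.range b.appTop)
  let ι : CommRingCat.of C ⟶ Γ(T, ⊤) := CommRingCat.ofHom C.subtype
  let j : T ⟶ Spec (CommRingCat.of C) := T.isoSpec.hom ≫ Spec.map ι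
  let a0 : Γ(W, ⊤) ⟶ CommRingCat.of C :=
    CommRingCat.ofHom (a.appTop.hom.codRestrict C fun x => Subring.subset_closure (Or.inl ⟨x, rfl⟩))
  let b0 : Γ(V, ⊤) ⟶ CommRingCat.of C :=
    CommRingCat.ofHom (b.appTop.hom.codRestrict C fun x => Subring.subset_closure (Or.inr ⟨x, rfl⟩))
  have ha : j ≫ Spec.map a0 ≫ W.isoSpec.inv = a := by
    rw [show a = T.isoSpec.hom ≫ Spec.map a.appTop ≫ W.isoSpec.inv by
      rw [Scheme.isoSpec_inv_naturality, Iso.hom_inv_id_assoc]]
    simp only [j, Category.assoc, ← Spec.map_comp_assoc]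
    rfl
  have hb : j ≫ Spec.map b0 ≫ V.isoSpec.inv = b := by
    rw [show b = T.isoSpec.hom ≫ Spec.map b.appTop ≫ V.isoSpec.inv by
      rw [Scheme.isoSpec_inv_naturality, Iso.hom_inv_id_assoc]]
    simp only [j, Category.assoc, ← Spec.map_comp_assoc]
    rfl
  have e0 : (Spec.map a0 ≫ W.isoSpec.inv) ≫ w = (Spec.map b0 ≫ V.isoSpec.inv) ≫ v := by
    haveI : Mono ι := ConcreteCategory.mono_of_injective _ Subtype.val_injective
    refine hom_ext_affine ?_
    have h1 : (j ≫ (Spec.map a0 ≫ W.isoSpec.inv) ≫ w).appTop = (j ≫ (Spec.map b0 ≫ V.isoSpec.inv) ≫ v).appTop := by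
      rw [← Category.assoc j (Spec.map a0 ≫ W.isoSpec.inv), ← Category.assoc j (Spec.map b0 ≫ V.isoSpec.inv), ha, hb, e]
    rw [Scheme.Hom.comp_appTop, Scheme.Hom.comp_appTop j] at h1
    have hj : j.appTop = (Scheme.ΓSpecIso (CommRingCat.of C)).hom ≫ ι := by
      simp only [j, Scheme.Hom.comp_appTop, Scheme.isoSpec_hom, Scheme.toSpecΓ_appTop,
        Scheme.ΓSpecIso_naturality]
    rw [hj, ← Category.assoc, ← Category.assoc] at h1
    exact (cancel_mono _).1 ((cancel_mono ι).1 h1)
  obtain ⟨r, rfl⟩ := (IsClosedImmersion.isAffine_surjective_of_isAffine (pullback.lift a b e)).2 s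
  have hl : pullback.lift a b e =
      j ≫ pullback.lift (Spec.map a0 ≫ W.isoSpec.inv) (Spec.map b0 ≫ V.isoSpec.inv) e0 := by
    apply pullback.hom_ext
    · rw [pullback.lift_fst, Category.assoc, pullback.lift_fst, ha]
    · rw [pullback.lift_snd, Category.assoc, pullback.lift_snd, hb]
  rw [hl, Scheme.Hom.comp_appTop]
  simp only [j, Scheme.Hom.comp_appTop, Scheme.isoSpec_hom, Scheme.toSpecΓ_appTop,
    Scheme.ΓSpecIso_naturality, CommRingCat.comp_apply]
  exact Subtype.prop _

end Groth.Agent.ProperFin
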