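import Groth.Agent.ProperFin.Transfer
import Groth.Agent.ProperFin.Gen
import Groth.Agent.ProjCoh.Cohom
import Groth.Agent.ProjCoh.PSData
import Groth.Agent.DevLib.Closed
import Groth.Agent.PullbackMod.Props
import Groth.Agent.QCohLib.Push

/-!
# Twists of the structure sheaf relative to a proper scheme
-/

set_option autoImplicit false

universe u

open CategoryTheory CategoryTheory.Limits AlgebraicGeometry TopologicalSpace Opposite
open Groth.Agent.CohBase Groth.Agent.CechSys Groth.Agent.ProjCoh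

noncomputable section

namespace Groth.Agent.ProjCoh.TwistData

variable {X : Scheme.{u}} {B : Type u} [CommRing B] (φ : B →+* Γ(X, ⊤))
variable {ι : Type} [DecidableEq ι] [Fintype ι] (T : TwistData X ι)

/-- Exactness of the Čech complexes in large degree, uniformly. -/
theorem exists_cexact [IsNoetherianRing B] (hgen : T.RatioGenerated φ)
    (hfin : ∀ i, Module.Finite Γ(X, T.U i) Γ(T.F 0, T.U i)) :
    ∃ d₀ : ℤ, ∀ d, d₀ ≤ d → ∀ p, CExact T.U' (Coh.toAb (T.F d)).obj p := by
  choose d₀ hd₀ using fun p : Fin (Fintype.card ι) =>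
    (T.sys φ).exists_vanH_of_FG (T.sys_FG φ hgen hfin) (p.1 + 1) p.1.succ_pos
  obtain ⟨D, hD⟩ := Finite.exists_le d₀
  refine ⟨D, fun d hd p c hc => ?_⟩
  obtain ⟨c', rfl⟩ := toCC_surjective φ T d (p + 1) c
  have hcZ : c' ∈ ((T.sys φ).deg d).Z (p + 1) := RSys.mem_Z _ |>.2 (toCC_injective φ T d (p + 1 + 1) (by
    rw [← cdiff_toCC, hc, map_zero]))
  have hB : c' ∈ ((T.sys φ).deg d).Bd (p + 1) := by
    by_cases h : Fintype.card ι ≤ p + 1
    · exact ((T.sys φ).deg d).vanH_of_card_le p h hcZ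
    · exact hd₀ ⟨p, by omega⟩ d ((hD _).trans hd) hcZ
  obtain ⟨b, rfl⟩ := hB
  exact ⟨toCC φ T d p b, cdiff_toCC φ T d p b⟩

end Groth.Agent.ProjCoh.TwistData

namespace Groth.Agent.ProperFin

lemma appLE_top_bijective {X : Scheme.{u}} (U : X.Opens) :
    Function.Bijective (U.ι.appLE U ⊤ (by simp)) := by
  rw [Scheme.Opens.ι_appLE, show (homOfLE _ : U.ι ''ᵁ ⊤ ⟶ U) = eqToHom U.ι_image_top from Subsingleton.elim _ _]
  exact ConcreteCategory.bijective_of_isIso (X.presheaf.mapIso (eqToIso U.ι_image_top).op).hom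

variable {A : Type u} [CommRing A] {Z X' : Scheme.{u}} (p : Z ⟶ Spec (CommRingCat.of A))
  (π : X' ⟶ Z) {N : ℕ} (q : X' ⟶ Proj (CohB1.polyGrading N A))

local notation "𝒜" => CohB1.polyGrading N A

/-- The coordinates. -/
def coord : Fin (N + 1) → 𝒜 1 := fun i => ⟨MvPolynomial.X i, MvPolynomial.isHomogeneous_X A i⟩

lemma coord_gen : Algebra.adjoin A (Set.range fun i => (coord (A := A) (N := N) i).1) = ⊤ :=
  MvPolynomial.adjoin_range_X

/-- The multiplication data of the twists of the structure sheaf. -/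
def mul : MulData X' (Fin (N + 1)) := psMul 𝒜 coord coord_gen q (Coh.structureModule X')

/-- The twists. -/
def twist (d : ℤ) : X'.Modules := (mul q).F d

variable [IsNoetherianRing A] [IsProper p] [IsProper π] [IsClosedImmersion q]
  (hq : q ≫ CohB1.ProjSpace.toSpec N A = π ≫ p)

include p π in
lemma isCoh_structure : Coh.IsCoh (Coh.structureModule X') :=
  haveI : IsLocallyNoetherian X' := LocallyOfFiniteType.isLocallyNoetherian (π ≫ p)
  DevLib.isCoh_structureModule X'

/-- The twisted family upstairs. -/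
def twistData : TwistData X' (Fin (N + 1)) :=
  psData 𝒜 coord coord_gen q (Coh.structureModule X') (isCoh_structure p π)

include p π in
lemma isQCoh_twist (d : ℤ) : Coh.IsQCoh (twist q d) := (twistData p π q).qcoh d

include p π in
lemma isAffineOpen_U_inf (S : Finset (Fin (N + 1))) (hS : S.Nonempty) :
    IsAffineOpen (S.inf (mul q).U) :=
  (twistData p π q).affine S hS

include p in
lemma isAffineOpen_inter_pre {W : X'.Opens} (hW : IsAffineOpen W) {V : Z.Opens} (hV : IsAffineOpen V) :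
    IsAffineOpen (W ⊓ π ⁻¹ᵁ V) := by
  haveI : Z.IsSeparated := ⟨by
    rw [← terminal.comp_from p]
    infer_instance⟩
  haveI : IsAffine W.toScheme := hW
  have h : W.ι ''ᵁ ((W.ι ≫ π) ⁻¹ᵁ V) = W ⊓ π ⁻¹ᵁ V := by
    rw [Scheme.Hom.comp_preimage, Scheme.Hom.image_preimage_eq_opensRange_inf, Scheme.Opens.opensRange_ι]
  haveI : IsAffineHom (W.ι ≫ π) :=
    haveI : IsAffineHom ((W.ι ≫ π) ≫ p) := inferInstance
    IsAffineHom.of_comp (W.ι ≫ π) p
  exact h ▸ (hV.preimage (W.ι ≫ π)).image_of_isOpenImmersion W.ι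

variable {V : Z.Opens}

/-- The multiplication data over the preimage of an open. -/
def mulOn (V : Z.Opens) : MulData (π ⁻¹ᵁ V).toScheme (Fin (N + 1)) := (mul q).pullback (π ⁻¹ᵁ V).ι

lemma mulOn_inf (S : Finset (Fin (N + 1))) :
    S.inf (mulOn π q V).U = (π ⁻¹ᵁ V).ι ⁻¹ᵁ S.inf (mul q).U :=
  (Finset.apply_inf_eq_inf_comp (fun W => (π ⁻¹ᵁ V).ι ⁻¹ᵁ W) (fun _ _ => rfl) (π ⁻¹ᵁ V).ι.preimage_top).symm

lemma image_mulOn (i : Fin (N + 1)) :
    (π ⁻¹ᵁ V).ι ''ᵁ (mulOn π q V).U i = π ⁻¹ᵁ V ⊓ (mul q).U i := by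
  show (π ⁻¹ᵁ V).ι ''ᵁ ((π ⁻¹ᵁ V).ι ⁻¹ᵁ (mul q).U i) = _
  rw [Scheme.Hom.image_preimage_eq_opensRange_inf, Scheme.Opens.opensRange_ι]

include p in
lemma isCoh_mulOn_zero : Coh.IsCoh ((mulOn π q V).F 0) :=
  PullbackMod.isCoh_pullback _ _ (isCoh_of_iso (psZeroIso 𝒜 coord coord_gen q _).symm (isCoh_structure p π))

/-- The twisted family over the preimage of an affine open. -/
def dataOn (hV : IsAffineOpen V) : TwistData (π ⁻¹ᵁ V).toScheme (Fin (N + 1)) :=
  (mulOn π q V).toTwistData (isCoh_mulOn_zero p π q).1 fun S hS => by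
    rw [← (π ⁻¹ᵁ V).ι.isAffineOpen_iff_of_isOpenImmersion, mulOn_inf,
      Scheme.Hom.image_preimage_eq_opensRange_inf, Scheme.Opens.opensRange_ι, inf_comm]
    exact isAffineOpen_inter_pre p π (isAffineOpen_U_inf p π q S hS) hV

/-- Functions on the open as constants. -/
def onφ (V : Z.Opens) : Γ(V.toScheme, ⊤) →+* Γ((π ⁻¹ᵁ V).toScheme, ⊤) := (π ∣_ V).appTop.hom

include hq in
lemma dataOn_gen (hV : IsAffineOpen V) : (dataOn p π q hV).RatioGenerated (onφ π V) := by
  intro i s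
  let V' := π ⁻¹ᵁ V
  let W := (mul q).U i
  let T : V'.toScheme.Opens := V'.ι ⁻¹ᵁ W
  have hWaff : IsAffineOpen W := by simpa using isAffineOpen_U_inf p π q {i} (Finset.singleton_nonempty i)
  have hTaff : IsAffineOpen T := by
    show IsAffineOpen ((dataOn p π q hV).U i)
    simpa using (dataOn p π q hV).affine {i} (Finset.singleton_nonempty i)
  haveI : IsAffine W.toScheme := hWaff
  haveI : IsAffine V.toScheme := hV
  haveI : IsAffine T.toScheme := hTaff
  let a : T.toScheme ⟶ W.toScheme := IsOpenImmersion.lift W.ι (T.ι ≫ V'.ι) (by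
    rw [Scheme.Opens.range_ι]
    rintro _ ⟨x, rfl⟩
    exact x.2)
  let b : T.toScheme ⟶ V.toScheme := T.ι ≫ (π ∣_ V)
  have ha : a ≫ W.ι = T.ι ≫ V'.ι := IsOpenImmersion.lift_fac _ _ _
  have hab : a ≫ (W.ι ≫ π) = b ≫ V.ι := by
    rw [reassoc_of% ha, Category.assoc, morphismRestrict_ι]
  have hpb : IsPullback a b (W.ι ≫ π) V.ι := by
    refine (IsOpenImmersion.isPullback b a V.ι (W.ι ≫ π) hab ?_).flip
    rw [Scheme.Opens.opensRange_ι]
    ext x
    constructor
    · intro (hx : W.ι x ∈ V')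
      refine ⟨⟨⟨W.ι x, hx⟩, x.2⟩, W.ι.isOpenEmbedding.injective ?_⟩
      show (a ≫ W.ι) ⟨⟨W.ι x, hx⟩, x.2⟩ = _
      rw [ha]
      rfl
    · rintro ⟨t, rfl⟩
      show (a ≫ W.ι ≫ π) t ∈ V
      rw [← Category.assoc, Category.assoc, hab]
      exact (b t).2
  have e : a ≫ (W.ι ≫ π) ≫ p = b ≫ V.ι ≫ p := by rw [← Category.assoc a, hab, Category.assoc]
  haveI : IsClosedImmersion (pullback.lift a b e) := by
    rw [show pullback.lift a b e = hpb.isoPullback.hom ≫ pullback.mapDesc (W.ι ≫ π) V.ι p by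
      apply pullback.hom_ext
      · erw [pullback.lift_fst, Category.assoc, pullback.lift_fst, Category.comp_id, hpb.isoPullback_hom_fst]
      · erw [pullback.lift_snd, Category.assoc, pullback.lift_snd, Category.comp_id, hpb.isoPullback_hom_snd]]
    infer_instance
  let θ : Γ(X', W) →+* Γ(V'.toScheme, T) := (V'.ι.app W).hom
  let ρ : Γ(V'.toScheme, T) →+* Γ(T.toScheme, ⊤) := (T.ι.appLE T ⊤ (by simp)).hom
  have hρ : Function.Bijective ρ := appLE_top_bijective T
  let E := MvPolynomial.eval₂Hom (φV (onφ π V) ((dataOn p π q hV).U i)) ((dataOn p π q hV).t i)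
  suffices h : Subring.closure (Set.range a.appTop ∪ Set.range b.appTop) ≤ (ρ.comp E).range by
    obtain ⟨y, hy⟩ := h (appTop_mem_closure a b _ _ e (ρ s))
    exact ⟨y, hρ.1 hy⟩
  have hc : ∀ r : Γ(V.toScheme, ⊤), b.appTop r = ρ (φV (onφ π V) T r) := fun r => by
    show T.ι.appTop ((π ∣_ V).appTop r) = T.ι.appLE T ⊤ _ _
    show _ = (V'.toScheme.presheaf.map (homOfLE (le_top : T ≤ ⊤)).op ≫ T.ι.appLE T ⊤ (by simp)) (onφ π V r)
    rw [Scheme.Hom.map_appLE]
    exact congr($(T.ι.app_eq_appLE (U := ⊤)).hom _)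
  refine Subring.closure_le.2 (Set.union_subset ?_ ?_)
  · rintro _ ⟨w, rfl⟩
    obtain ⟨w, rfl⟩ := (appLE_top_bijective W).2 w
    have ht : a.appTop (W.ι.appLE W ⊤ (by simp) w) = ρ (θ w) := by
      show (W.ι.appLE W ⊤ (by simp) ≫ a.app ⊤) w = (V'.ι.app W ≫ T.ι.appLE T ⊤ (by simp)) w
      rw [Scheme.Hom.app_eq_appLE, Scheme.Hom.app_eq_appLE]
      erw [Scheme.Hom.appLE_comp_appLE, Scheme.Hom.appLE_comp_appLE]
      simp only [ha]
      rfl
    rw [show (CategoryTheory.ConcreteCategory.hom a.appTop) (W.ι.appLE W ⊤ (by simp) w) = ρ (θ w) from ht]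
    obtain ⟨P, rfl⟩ := psData_gen 𝒜 coord coord_gen q (Coh.structureModule X') (isCoh_structure p π) i w
    let κ : A →+* Γ(V.toScheme, ⊤) := Coh.toGlobal (V.ι ≫ p)
    have hθ : θ.comp (MvPolynomial.eval₂Hom (φV (psφ 𝒜 q) W) ((mul q).t i)) =
        E.comp (MvPolynomial.map κ) := by
      refine MvPolynomial.ringHom_ext (fun r => ?_) fun j => ?_
      · show θ (MvPolynomial.eval₂Hom _ _ (MvPolynomial.C r)) = E (MvPolynomial.map κ (MvPolynomial.C r))
        rw [MvPolynomial.map_C]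
        simp only [E, MvPolynomial.eval₂Hom_C]
        show V'.ι.app W (X'.presheaf.map (homOfLE (le_top : W ≤ ⊤)).op (psφ 𝒜 q r)) =
          V'.toScheme.presheaf.map (homOfLE (le_top : T ≤ ⊤)).op (onφ π V (κ r))
        rw [show psφ 𝒜 q r = Coh.toGlobal (π ≫ p) r from (by
          rw [← hq]
          exact (RingHom.congr_fun (toGlobal_comp (CohB1.ProjSpace.toSpec N A) q) r).symm)]
        refine Eq.trans (congr($(V'.ι.naturality (homOfLE (le_top : W ≤ ⊤)).op).hom (Coh.toGlobal (π ≫ p) r))) ?_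
        refine congrArg (V'.toScheme.presheaf.map (homOfLE (le_top : T ≤ ⊤)).op) ?_
        show V'.ι.appTop.hom.comp (Coh.toGlobal (π ≫ p)) r = (π ∣_ V).appTop.hom.comp κ r
        rw [← toGlobal_comp, ← toGlobal_comp, morphismRestrict_ι_assoc]
      · show θ (MvPolynomial.eval₂Hom _ _ (MvPolynomial.X j)) = E (MvPolynomial.map κ (MvPolynomial.X j))
        rw [MvPolynomial.map_X]
        simp only [E, MvPolynomial.eval₂Hom_X']
        rfl
    exact ⟨_, congrArg ρ (RingHom.congr_fun hθ P).symm⟩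
  · rintro _ ⟨r, rfl⟩
    exact ⟨MvPolynomial.C r, (congrArg ρ (MvPolynomial.eval₂Hom_C _ _ r)).trans (hc r).symm⟩

include p in
lemma dataOn_hfin (hV : IsAffineOpen V) (i : Fin (N + 1)) :
    Module.Finite Γ((π ⁻¹ᵁ V).toScheme, (dataOn p π q hV).U i)
      Γ((dataOn p π q hV).F 0, (dataOn p π q hV).U i) :=
  QCohLib.finite_sections_of_isCoh (isCoh_mulOn_zero p π q)
    (by simpa using (dataOn p π q hV).affine {i} (Finset.singleton_nonempty i))

include p in
lemma isNoetherianRing_top (hV : IsAffineOpen V) : IsNoetherianRing Γ(V.toScheme, ⊤) := by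
  haveI : IsLocallyNoetherian Z := LocallyOfFiniteType.isLocallyNoetherian p
  haveI : IsAffine V.toScheme := hV
  exact IsLocallyNoetherian.component_noetherian ⟨⊤, isAffineOpen_top _⟩

include p hq in
/-- Vanishing over an affine open. -/
theorem exists_vanishing_pre (hV : IsAffineOpen V) :
    ∃ d₀ : ℤ, ∀ d, d₀ ≤ d → ∀ n, Subsingleton (HU (π ⁻¹ᵁ V) (Coh.toAb (twist q d)) (n + 1)) := by
  haveI := isNoetherianRing_top p hV
  obtain ⟨d₀, h⟩ := (dataOn p π q hV).exists_cexact (onφ π V) (dataOn_gen p π q hq hV) (dataOn_hfin p π q hV)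
  refine ⟨d₀, fun d hd n => ?_⟩
  let U'' : ULift.{u} (Fin (N + 1)) → X'.Opens := fun a => (π ⁻¹ᵁ V).ι ''ᵁ (dataOn p π q hV).U' a
  haveI := isQCoh_twist p π q d
  refine subsingleton_HU_of_cover U'' (fun a => ?_) (fun x hx => ?_) (acyclic_of_affine _ _ fun m t => ?_) n
    (cexact_of_pullback (π ⁻¹ᵁ V).ι (twist q d) (fun _ => rfl) (h d hd n))
  · rw [show U'' a = π ⁻¹ᵁ V ⊓ (mul q).U a.down from image_mulOn π q a.down]
    exact inf_le_left
  · obtain ⟨a, ha⟩ := Opens.mem_iSup.1 ((dataOn p π q hV).cover'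
      (show (⟨x, hx⟩ : (π ⁻¹ᵁ V : X'.Opens)) ∈ (⊤ : (π ⁻¹ᵁ V).toScheme.Opens) from trivial))
    exact Opens.mem_iSup.2 ⟨a, ⟨_, ha, rfl⟩⟩
  · rw [inter_image (π ⁻¹ᵁ V).ι (U := (dataOn p π q hV).U') (fun _ => rfl), TwistData.inter_U']
    exact ((dataOn p π q hV).affine _ (img_nonempty _)).image_of_isOpenImmersion _

include p hq in
/-- Finitely many sections over an affine open. -/
theorem finite_sections_push (hV : IsAffineOpen V) (d : ℤ) :
    Module.Finite Γ(Z, V) Γ((Scheme.Modules.pushforward π).obj (twist q d), V) := by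
  haveI := isNoetherianRing_top p hV
  have h := (dataOn p π q hV).finite_HH (onφ π V) (dataOn_gen p π q hq hV) (dataOn_hfin p π q hV) d 0
  let V' := π ⁻¹ᵁ V
  let F' := (Scheme.Modules.pullback V'.ι).obj (twist q d)
  let e : Coh.HH V'.toScheme F' 0 ≃+ Γ(F', ⊤) := (HHEquiv F' 0).trans (H0Equiv ⊤ (Coh.toAb F'))
  have hle : V' ≤ V'.ι ''ᵁ ⊤ := V'.ι_image_top.ge
  have hge : V'.ι ''ᵁ ⊤ ≤ V' := V'.ι_image_top.le
  let k : Γ(twist q d, V') ≃+ Γ(twist q d, V'.ι ''ᵁ ⊤) :=
    { toFun := res (twist q d).presheaf hge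
      invFun := res (twist q d).presheaf hle
      left_inv := fun s => by rw [res_res, res_self]
      right_inv := fun s => by rw [res_res, res_self]
      map_add' := map_add _ }
  let K : Γ(twist q d, V') ≃+ Γ(F', ⊤) := k.trans (pbSec V'.ι (twist q d) ⊤)
  letI := Module.compHom (Coh.HH V'.toScheme F' 0) (topHom (onφ π V))
  haveI : Module.Finite Γ(V.toScheme, ⊤) (Coh.HH V'.toScheme F' 0) := h
  let G : Coh.HH V'.toScheme F' 0 ≃+ Γ((Scheme.Modules.pushforward π).obj (twist q d), V) := e.trans K.symm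
  let σ : Γ(V.toScheme, ⊤) →+* Γ(Z, V) := V.topIso.hom.hom
  haveI : RingHomSurjective σ := ⟨(ConcreteCategory.bijective_of_isIso V.topIso.hom).2⟩
  let L : Coh.HH V'.toScheme F' 0 →ₛₗ[σ] Γ((Scheme.Modules.pushforward π).obj (twist q d), V) :=
    { toFun := G
      map_add' := map_add G
      map_smul' := fun r x => by
        show K.symm (e (Sheaf.H.map (Coh.smulAb F' (topHom (onφ π V) r)) 0 x)) =
          σ r • (show Γ((Scheme.Modules.pushforward π).obj (twist q d), V) from K.symm (e x))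
        apply K.injective
        rw [AddEquiv.apply_symm_apply]
        have he : e (Sheaf.H.map (Coh.smulAb F' (topHom (onφ π V) r)) 0 x) =
            onφ π V r • (show Γ(F', ⊤) from e x) := by
          show H0Equiv ⊤ _ (HEquiv (Coh.toAb F') 0 (Sheaf.H.map _ 0 x)) = _
          rw [HEquiv_map, H0Equiv_hmap]
          refine (Coh.smulAb_app _ _ _ _).trans ?_
          congr 1
          exact congr($(V'.toScheme.presheaf.map_id _).hom _)
        refine he.trans ?_
        show onφ π V r • (show Γ(F', ⊤) from e x) = pbSec V'.ι (twist q d) ⊤ (res (twist q d).presheaf hge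
          (π.app V (σ r) • (show Γ(twist q d, V') from K.symm (e x))))
        have hmap : res (twist q d).presheaf hge (π.app V (σ r) • (show Γ(twist q d, V') from K.symm (e x))) =
            X'.presheaf.map (homOfLE hge).op (π.app V (σ r)) •
              res (twist q d).presheaf hge (show Γ(twist q d, V') from K.symm (e x)) :=
          (twist q d).map_smul _ _ _
        rw [hmap]
        refine Eq.trans ?_ (pbSec_smul V'.ι (twist q d) ⊤ _ _).symm
        refine congrArg₂ (· • ·) ?_ (K.apply_symm_apply (e x)).symm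
        show (π ∣_ V).appTop r = _
        rw [morphismRestrict_appTop, Scheme.Opens.ι_appIso]
        have key : π.app (V.ι ''ᵁ ⊤) ≫ X'.presheaf.map (eqToHom (image_morphismRestrict_preimage π V ⊤)).op =
            (Z.presheaf.map (eqToHom V.ι_image_top.symm).op ≫ π.app V) ≫ X'.presheaf.map (homOfLE hge).op := by
          rw [π.naturality, Category.assoc, ← X'.presheaf.map_comp]
          rfl
        exact congr($(key).hom r) }
  exact Module.Finite.of_surjective L G.surjective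

end Groth.Agent.ProperFin
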