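import Groth.Agent.ProperFin.Chow
import Groth.Agent.ProperFin.Twisted
import Groth.Agent.ProperFin.PushCov
import Groth.Agent.ProperFin.LES
import Groth.Agent.DevLib.Apps

/-!
# Finiteness of coherent cohomology for proper schemes over an affine base
-/

set_option autoImplicit false
set_option backward.defeqAttrib.useBackward true

universe u

open CategoryTheory CategoryTheory.Limits AlgebraicGeometry TopologicalSpace Opposite
open Groth.Agent.CohBase Groth.Agent.ProjCoh Groth.Agent.DCohLib Groth.Agent.PullbackMod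

noncomputable section

namespace Groth.Agent.ProperFin

/-- The stalk of a direct image at a point with small fibre neighbourhoods. -/
theorem bijective_pushStalk_of_nhds {X Y : Scheme.{u}} (g : X ⟶ Y) (M : X.Modules) (x : X)
    (h : ∀ W : X.Opens, x ∈ W → ∃ V : Y.Opens, g x ∈ V ∧ g ⁻¹ᵁ V ≤ W) :
    Function.Bijective (pushStalk g M x) := by
  let N := (Scheme.Modules.pushforward g).obj M
  refine ⟨(injective_iff_map_eq_zero _).2 fun z hz => ?_, fun z => ?_⟩
  · obtain ⟨V, hV, s, rfl⟩ := TopCat.Presheaf.exists_germ_eq N.presheaf z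
    erw [pushStalk_germ] at hz
    obtain ⟨W, hW, i₁, i₂, e⟩ := TopCat.Presheaf.germ_eq M.presheaf x (U := g ⁻¹ᵁ V) (V := g ⁻¹ᵁ V) hV hV s 0
      (hz.trans (map_zero _).symm)
    obtain ⟨V', hV', hle⟩ := h W hW
    have hle' : g ⁻¹ᵁ (V ⊓ V') ≤ W := fun y hy => hle hy.2
    rw [← N.presheaf.germ_res_apply (homOfLE (inf_le_left : V ⊓ V' ≤ V)) (g x) ⟨hV, hV'⟩ s]
    have h0 : N.presheaf.map (homOfLE (inf_le_left : V ⊓ V' ≤ V)).op s = 0 := by
      show res M.presheaf (fun y hy => hy.1 : g ⁻¹ᵁ (V ⊓ V') ≤ g ⁻¹ᵁ V) s = 0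
      rw [← res_res M.presheaf i₁.le hle' s]
      exact (congrArg (res M.presheaf hle') e).trans (by rw [map_zero, map_zero])
    rw [h0, map_zero]
  · obtain ⟨W, hW, s, rfl⟩ := TopCat.Presheaf.exists_germ_eq M.presheaf z
    obtain ⟨V, hV, hle⟩ := h W hW
    refine ⟨N.presheaf.germ V (g x) hV (M.presheaf.map (homOfLE hle).op s), ?_⟩
    erw [pushStalk_germ]
    exact M.presheaf.germ_res_apply (homOfLE hle) x hV s

/-- A bijection semilinear along a surjection preserves simplicity. -/
theorem isSimpleModule_of_semilinear {R S M N : Type*} [Ring R] [Ring S] [AddCommGroup M] [AddCommGroup N]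
    [Module R M] [Module S N] (σ : R → S) (hσ : Function.Surjective σ) (e : M →+ N)
    (he : Function.Bijective e) (hsm : ∀ r m, e (r • m) = σ r • e m) (h : IsSimpleModule S N) :
    IsSimpleModule R M := by
  obtain ⟨hnt, hs⟩ := isSimpleModule_iff_toSpanSingleton_surjective.1 h
  refine isSimpleModule_iff_toSpanSingleton_surjective.2 ⟨(Equiv.ofBijective e he).nontrivial,
    fun m hm y => ?_⟩
  obtain ⟨s, hs⟩ := hs (e m) (fun h0 => hm (he.1 (h0.trans (map_zero e).symm))) (e y)
  obtain ⟨r, rfl⟩ := hσ s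
  exact ⟨r, he.1 ((hsm r m).trans hs)⟩

/-- The stalk of the structure sheaf at the generic point is simple. -/
theorem isSimpleModule_stalk_structure (Z : Scheme.{u}) [IsIntegral Z] :
    IsSimpleModule (Z.presheaf.stalk (genericPoint Z))
      ((Coh.structureModule Z).presheaf.stalk (genericPoint Z)) := by
  haveI : Nontrivial ((Coh.structureModule Z).presheaf.stalk (genericPoint Z)) :=
    ⟨(Coh.structureModule Z).presheaf.germ ⊤ (genericPoint Z) trivial (1 : Γ(Z, ⊤)), 0, fun h =>
      one_ne_zero (α := Z.presheaf.stalk (genericPoint Z)) (by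
        rw [← map_one (Z.presheaf.germ ⊤ (genericPoint Z) trivial).hom,
          ← map_zero (Z.presheaf.germ ⊤ (genericPoint Z) trivial).hom]
        exact (DevLib.unit_germ_congr Z _ _ _ _).1 (h.trans (map_zero _).symm))⟩
  refine isSimpleModule_iff_toSpanSingleton_surjective.2 ⟨inferInstance, fun m hm y => ?_⟩
  obtain ⟨U, hU, a, rfl⟩ := TopCat.Presheaf.exists_germ_eq (Coh.structureModule Z).presheaf m
  obtain ⟨V, hV, b, rfl⟩ := TopCat.Presheaf.exists_germ_eq (Coh.structureModule Z).presheaf y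
  have hau : Z.presheaf.germ U (genericPoint Z) hU a ≠ 0 := fun h => hm
    (((DevLib.unit_germ_congr Z hU hU a 0).2 (h.trans (map_zero _).symm)).trans (map_zero _))
  refine ⟨(show Z.functionField from Z.presheaf.germ V (genericPoint Z) hV b) *
        (show Z.functionField from Z.presheaf.germ U (genericPoint Z) hU a)⁻¹, ?_⟩
  obtain ⟨W, hW, g, hg⟩ := TopCat.Presheaf.exists_germ_eq Z.presheaf
    ((show Z.functionField from Z.presheaf.germ V (genericPoint Z) hV b) *
        (show Z.functionField from Z.presheaf.germ U (genericPoint Z) hU a)⁻¹)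
  rw [← hg]
  have hx : genericPoint Z ∈ W ⊓ U := ⟨hW, hU⟩
  show (Z.presheaf.germ W (genericPoint Z) hW g) • (Coh.structureModule Z).presheaf.germ U (genericPoint Z) hU a = _
  rw [← Z.presheaf.germ_res_apply (homOfLE (inf_le_left : W ⊓ U ≤ W)) (genericPoint Z) hx g,
    ← (Coh.structureModule Z).presheaf.germ_res_apply (homOfLE (inf_le_right : W ⊓ U ≤ U)) (genericPoint Z) hx a]
  refine (PresheafOfModules.germ_smul (R := Z.presheaf) (Coh.structureModule Z).val (genericPoint Z)
    (W ⊓ U) hx _ _).symm.trans ?_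
  refine (DevLib.unit_germ_congr Z hx hV _ b).2 ?_
  show Z.presheaf.germ (W ⊓ U) (genericPoint Z) hx
    (Z.presheaf.map (homOfLE (inf_le_left : W ⊓ U ≤ W)).op g *
      Z.presheaf.map (homOfLE (inf_le_right : W ⊓ U ≤ U)).op a) = _
  rw [map_mul, Z.presheaf.germ_res_apply, Z.presheaf.germ_res_apply, hg]
  exact inv_mul_cancel_right₀ (b := (show Z.functionField from Z.presheaf.germ U (genericPoint Z) hU a)) hau _

variable {A : Type u} [CommRing A] [IsNoetherianRing A]

section Twist

variable {Z X' : Scheme.{u}} (p : Z ⟶ Spec (CommRingCat.of A)) (π : X' ⟶ Z) {N : ℕ}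
  (q : X' ⟶ Proj (CohB1.polyGrading N A)) [IsProper p] [IsProper π] [IsClosedImmersion q]

theorem isSimpleModule_stalk_twist [IsIntegral X'] (d : ℤ) :
    IsSimpleModule (X'.presheaf.stalk (genericPoint X')) ((twist q d).presheaf.stalk (genericPoint X')) := by
  let x := genericPoint X'
  let T := mul q
  obtain ⟨i, hi⟩ := Opens.mem_iSup.1 (T.cover.ge (show x ∈ (⊤ : X'.Opens) from trivial))
  have h0 : IsSimpleModule (X'.presheaf.stalk x) ((T.F 0).presheaf.stalk x) := by
    let e := psZeroIso (CohB1.polyGrading N A) coord coord_gen q (Coh.structureModule X')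
    have hb : Function.Bijective (stalkLin e.hom x) := (isIso_iff_stalk e.hom).1 inferInstance x
    haveI := isSimpleModule_stalk_structure X'
    exact IsSimpleModule.congr (LinearEquiv.ofBijective _ hb)
  have step : ∀ e : ℤ, IsSimpleModule (X'.presheaf.stalk x) ((T.F (e - 1)).presheaf.stalk x) ↔
      IsSimpleModule (X'.presheaf.stalk x) ((T.F e).presheaf.stalk x) := fun e =>
    ⟨fun h => IsSimpleModule.congr (LinearEquiv.ofBijective _ (T.bij i e x hi)).symm,
      fun h => IsSimpleModule.congr (LinearEquiv.ofBijective _ (T.bij i e x hi))⟩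
  induction d using Int.induction_on with
  | zero => exact h0
  | succ n ih =>
    refine (step _).1 ?_
    rwa [add_sub_cancel_right]
  | pred n ih => exact (step _).2 ih

include p in
/-- The direct image of a twist is coherent. -/
theorem isCoh_push_twist (hq : q ≫ CohB1.ProjSpace.toSpec N A = π ≫ p) (d : ℤ) :
    Coh.IsCoh ((Scheme.Modules.pushforward π).obj (twist q d)) := by
  haveI := isQCoh_twist p π q d
  haveI : Coh.IsQCoh ((Scheme.Modules.pushforward π).obj (twist q d)) := QCohLib.isQCoh_pushforward _ π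
  exact QCohLib.isCoh_of_finite _ fun W hW => finite_sections_push p π q hq hW d

include p in
/-- Some twist has finite cohomology of its direct image. -/
theorem exists_allFin_push_twist (hq : q ≫ CohB1.ProjSpace.toSpec N A = π ≫ p) :
    ∃ d : ℤ, AllFin (Coh.toGlobal p) ((Scheme.Modules.pushforward π).obj (twist q d)) := by
  haveI : CompactSpace Z := QuasiCompact.compactSpace_of_compactSpace p
  haveI : Z.IsSeparated := ⟨by
    rw [← terminal.comp_from p]
    infer_instance⟩
  obtain ⟨r, V, hV, hcov⟩ : ∃ (r : ℕ) (V : Fin r → Z.Opens), (∀ k, IsAffineOpen (V k)) ∧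
      (⊤ : Z.Opens) ≤ ⨆ k : ULift.{u} (Fin r), V k.down := by
    obtain ⟨t, ht⟩ := isCompact_univ.elim_finite_subcover (fun W : Z.affineOpens => (W.1 : Set Z))
      (fun W => W.1.2) (fun z _ => Set.mem_iUnion.2 (by
        obtain ⟨_, ⟨V, hV, rfl⟩, hz, -⟩ :=
          Z.isBasis_affineOpens.exists_subset_of_mem_open (Set.mem_univ z) isOpen_univ
        exact ⟨⟨V, hV⟩, hz⟩))
    refine ⟨t.card, fun k => (t.equivFin.symm k).1.1, fun k => (t.equivFin.symm k).1.2, fun z hz => ?_⟩
    obtain ⟨a, ha, hza⟩ := Set.mem_iUnion₂.1 (ht (Set.mem_univ z))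
    exact Opens.mem_iSup.2 ⟨⟨t.equivFin ⟨a, ha⟩⟩, by simpa using hza⟩
  have haff : ∀ S : Finset (Fin r), S.Nonempty → IsAffineOpen (S.inf V) := fun S hS => by
    induction hS using Finset.Nonempty.cons_induction with
    | singleton a => simpa using hV a
    | cons a s ha hs ih => rw [Finset.inf_cons]; exact (hV a).inf ih
  choose d₀ hd₀ using fun S : {S : Finset (Fin r) // S.Nonempty} =>
    exists_vanishing_pre p π q hq (haff S.1 S.2)
  obtain ⟨D, hD⟩ := Finite.exists_le d₀
  let V' : ULift.{u} (Fin r) → Z.Opens := fun k => V k.down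
  have hinter : ∀ (m : ℕ) (t : Fin (m + 1) → ULift.{u} (Fin r)),
      inter V' t = (CechSys.img (ULift.down ∘ t)).inf V := fun m t => by
    refine le_antisymm (Finset.le_inf fun a ha => ?_) (le_iInf fun k => ?_)
    · obtain ⟨k, rfl⟩ := CechSys.mem_img.1 ha
      exact inter_le V' t k
    · exact Finset.inf_le (CechSys.mem_img.2 ⟨k, rfl⟩)
  have haff' : ∀ (m : ℕ) (t : Fin (m + 1) → ULift.{u} (Fin r)), IsAffineOpen (inter V' t) := fun m t => by
    rw [hinter]
    exact haff _ (CechSys.img_nonempty _)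
  refine ⟨D, fun n => finite_push_of_cover π (twist q D) V' hcov (fun m t k => ?_) ?_ (Coh.toGlobal p) n ?_⟩
  · rw [← inter_preCov, hinter]
    exact hd₀ ⟨_, CechSys.img_nonempty _⟩ D (hD _) k
  · haveI := (isCoh_push_twist p π q hq D).1
    exact acyclic_of_affine _ _ haff'
  · rw [show (gTop π).comp (Coh.toGlobal p) = topHom (psφ (CohB1.polyGrading N A) q) by
      refine (toGlobal_comp p π).symm.trans ?_
      rw [← hq]
      exact toGlobal_comp _ _]
    exact finite_psTwist (CohB1.polyGrading N A) coord coord_gen q _ (isCoh_structure p π) D n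

end Twist

variable {X : Scheme.{u}} (p : X ⟶ Spec (CommRingCat.of A)) [IsProper p]

include p in
/-- A test module at every point. -/
theorem exists_test_module (ξ : X) :
    ∃ G : X.Modules, Coh.IsCoh G ∧ (∀ y ∈ CohB1.support G, ξ ⤳ y) ∧
      IsSimpleModule (X.presheaf.stalk ξ) (G.presheaf.stalk ξ) ∧ AllFin (Coh.toGlobal p) G := by
  obtain ⟨Z, i, hi, hZ, -, hgen⟩ := DevLib.exists_integral_closed ξ
  haveI := hi
  haveI := hZ
  subst hgen
  obtain ⟨X', π, N, q, hX', hπ, hqc, hq, U, hUne, hU⟩ := exists_chow (i ≫ p)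
  haveI := hX'
  haveI := hπ
  let q' : X' ⟶ Proj (CohB1.polyGrading N A) := q
  haveI : IsClosedImmersion q' := hqc
  obtain ⟨d, hd⟩ := exists_allFin_push_twist (i ≫ p) π q' hq
  let H := (Scheme.Modules.pushforward π).obj (twist q' d)
  have hH : Coh.IsCoh H := isCoh_push_twist (i ≫ p) π q' hq d
  haveI := hH.1
  let η' := genericPoint X'
  obtain ⟨z, hz⟩ := hUne
  have hηU : genericPoint Z ∈ U := ((genericPoint_spec Z).mem_open_set_iff U.2).2 (by simpa using ⟨z, hz⟩)
  obtain ⟨x, hx⟩ := (π ∣_ U).surjective ⟨genericPoint Z, hηU⟩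
  have hcoe : ∀ w : ↥(π ⁻¹ᵁ U).toScheme, ((π ∣_ U) w).1 = π w.1 := fun w =>
    congr($(morphismRestrict_ι π U) w)
  have hη : π η' = genericPoint Z := by
    have h1 : π η' ⤳ genericPoint Z := by
      have := (((genericPoint_spec X').specializes (show x.1 ∈ Set.univ from trivial)).map π.continuous)
      rwa [← hcoe x, hx] at this
    exact (h1.antisymm ((genericPoint_spec Z).specializes trivial)).eq
  have hη' : η' ∈ π ⁻¹ᵁ U := show π η' ∈ U from hη ▸ hηU
  have hbπ : Function.Bijective (pushStalk π (twist q' d) η') := by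
    refine bijective_pushStalk_of_nhds π _ _ fun W hW => ?_
    let h := (π ∣_ U).homeomorph
    refine ⟨⟨Subtype.val '' (h '' ((π ⁻¹ᵁ U).ι ⁻¹' W)),
      U.2.isOpenMap_subtype_val _ (h.isOpenMap _ (W.2.preimage (π ⁻¹ᵁ U).ι.continuous))⟩,
      ⟨_, ⟨⟨η', hη'⟩, hW, rfl⟩, hcoe _⟩, ?_⟩
    rintro y ⟨_, ⟨w, hw, rfl⟩, he⟩
    have hy : y ∈ π ⁻¹ᵁ U := show π y ∈ U from he ▸ (h w).2
    have : w = ⟨y, hy⟩ := h.injective (Subtype.ext (he.trans (hcoe ⟨y, hy⟩).symm))
    subst this
    exact hw
  have hsurjπ : Function.Surjective (π.stalkMap η') := by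
    have : IsIso (π.stalkMap η') := by
      have e := morphismRestrictStalkMap π U ⟨η', hη'⟩
      haveI : IsIso (Arrow.mk ((π ∣_ U).stalkMap ⟨η', hη'⟩)).hom := by
        show IsIso ((π ∣_ U).stalkMap ⟨η', hη'⟩)
        infer_instance
      exact ((MorphismProperty.isomorphisms CommRingCat).arrow_mk_iso_iff e).1
        (show (MorphismProperty.isomorphisms CommRingCat) ((π ∣_ U).stalkMap ⟨η', hη'⟩) from by
          exact inferInstanceAs (IsIso _))
    exact (ConcreteCategory.bijective_of_isIso (π.stalkMap η')).2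
  have hsH : IsSimpleModule (Z.presheaf.stalk (genericPoint Z)) (H.presheaf.stalk (genericPoint Z)) := by
    have key : ∀ y, π η' = y → IsSimpleModule (Z.presheaf.stalk y) (H.presheaf.stalk y) := by
      rintro y rfl
      exact isSimpleModule_of_semilinear _ hsurjπ _ hbπ (pushStalk_smul π _ η')
        (isSimpleModule_stalk_twist q' d)
    exact key _ hη
  refine ⟨(Scheme.Modules.pushforward i).obj H, DevLib.isCoh_pushforward_closed i hH, fun y hy => ?_, ?_, ?_⟩
  · exact DevLib.specializes_of_mem_range i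
      (by_contra fun h => hy (subsingleton_stalk_pushforward i _ y h))
  · exact isSimpleModule_of_semilinear _ (i.stalkMap_surjective _) _
      (bijective_pushStalk i H (genericPoint Z)) (pushStalk_smul i H _) hsH
  · intro n
    refine (finite_push_iff i (fun V hV m => affine_vanishing H (hV.preimage i) m) (Coh.toGlobal p) n).2 ?_
    rw [show (gTop i).comp (Coh.toGlobal p) = Coh.toGlobal (i ≫ p) from (toGlobal_comp p i).symm]
    exact hd n

include p in
/-- Finiteness of coherent cohomology. -/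
theorem allFin_of_isCoh [IsNoetherian X] (M : X.Modules) (hM : Coh.IsCoh M) : AllFin (Coh.toGlobal p) M := by
  let P : X.Modules → Prop := AllFin (Coh.toGlobal p)
  have hiso : ∀ M N : X.Modules, Nonempty (M ≅ N) → P M → P N := fun M N ⟨e⟩ h => h.of_iso _ e
  have htt := fun (S : ShortComplex X.Modules) (hS : S.ShortExact) (_ : Coh.IsCoh S.X₁)
    (_ : Coh.IsCoh S.X₂) (_ : Coh.IsCoh S.X₃) (_ : CohB1.support S.X₂ ⊆ (Set.univ : Set X)) =>
      allFin_two_three (Coh.toGlobal p) S hS
  have hzero : ∀ N : X.Modules, IsZero N → P N := fun N hN n => by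
    haveI : Subsingleton (Coh.HH X N n) := subsingleton_of_forall_eq 0 fun x => by
      refine (Sheaf.H.map_id_apply x).symm.trans ?_
      rw [show 𝟙 (Coh.toAb N) = (QCohLib.toAbF X).map (0 : N ⟶ N) by
        rw [← hN.eq_of_src (𝟙 N) 0]
        exact ((QCohLib.toAbF X).map_id N).symm]
      rw [Functor.map_zero, Sheaf.H.map_apply, Abelian.Ext.mk₀_zero, Abelian.Ext.comp_zero]
    infer_instance
  refine DevLib.devissage Set.univ P hiso hzero (fun S hS a b c d => (htt S hS a b c d).2.1)
    (fun ξ _ hcl Q hQ hsm => ?_) M hM (Set.subset_univ _)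
  obtain ⟨G, hG, hsupp, hsimp, hPG⟩ := exists_test_module p ξ
  exact DevLib.piece_of_two_three Set.univ hcl P hiso htt hG hsupp hsimp hPG hQ hsm

end Groth.Agent.ProperFin
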