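import Groth.Agent.CohBase.PushNat
import Groth.Agent.CohBase.Affine
import Groth.Prelude.Def_Coh

/-!
# Cohomology of direct images as modules
-/

set_option autoImplicit false

universe u

open CategoryTheory CategoryTheory.Limits AlgebraicGeometry TopologicalSpace Opposite
open Groth.Agent.CohBase

noncomputable section

namespace Groth.Agent.ProperFin

variable {X Y : Scheme.{u}} (g : X ⟶ Y)

/-- No higher cohomology over the preimages of affine opens. -/
def AffAcyclic (M : X.Modules) : Prop :=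
  ∀ V : Y.Opens, IsAffineOpen V → ∀ n, Subsingleton (HU (g ⁻¹ᵁ V) (Coh.toAb M) (n + 1))

/-- Pullback of global functions. -/
def gTop : Coh.Γtop Y →+* Coh.Γtop X := g.appTop.hom

lemma smulAb_push (M : X.Modules) (r : Coh.Γtop Y) :
    Coh.smulAb ((Scheme.Modules.pushforward g).obj M) r =
      (pushS g.base).map (Coh.smulAb M (gTop g r)) := by
  ext U m
  rw [Coh.smulAb_app]
  show g.app U.unop (Coh.resTop Y U r) • (show Γ(M, g ⁻¹ᵁ U.unop) from m) =
    (show Γ(X, g ⁻¹ᵁ U.unop) from Coh.resTop X (op (g ⁻¹ᵁ U.unop)) (gTop g r)) •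
      (show Γ(M, g ⁻¹ᵁ U.unop) from m)
  congr 1
  exact congr($(g.naturality (homOfLE (le_top : U.unop ≤ ⊤)).op) r)

theorem exists_pushEquiv {M : X.Modules} (hM : AffAcyclic g M) (n : ℕ) :
    ∃ e : Coh.HH X M n ≃+ Coh.HH Y ((Scheme.Modules.pushforward g).obj M) n,
      ∀ (r : Coh.Γtop Y) (x : Coh.HH X M n), e (gTop g r • x) = r • e x := by
  obtain ⟨e, he⟩ := hasPushNat g.base (B := fun V : Y.Opens => IsAffineOpen V)
    (fun W y hy => by
      obtain ⟨_, ⟨V : Y.Opens, hV, rfl⟩, hyV, hVW⟩ :=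
        Y.isBasis_affineOpens.exists_subset_of_mem_open (a := y) hy W.2
      exact ⟨V, hV, hyV, hVW⟩)
    (F := Coh.toAb M) (fun V hV m => hM V hV m) n
  let a := HHEquiv M n
  let b := HHEquiv ((Scheme.Modules.pushforward g).obj M) n
  refine ⟨(a.trans e).trans b.symm, fun r x => ?_⟩
  apply b.injective
  simp only [AddEquiv.trans_apply]
  refine (b.apply_symm_apply _).trans ?_
  show e (a (Sheaf.H.map (Coh.smulAb M (gTop g r)) n x)) =
    b (Sheaf.H.map (Coh.smulAb ((Scheme.Modules.pushforward g).obj M) r) n (b.symm (e (a x))))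
  rw [show a = HEquiv (Coh.toAb M) n from rfl, HEquiv_map, he,
    show b = HEquiv (Coh.toAb ((Scheme.Modules.pushforward g).obj M)) n from rfl, HEquiv_map,
    AddEquiv.apply_symm_apply, smulAb_push]
  rfl

variable {A : Type u} [CommRing A]

/-- Finiteness passes to direct images and back. -/
theorem finite_push_iff {M : X.Modules} (hM : AffAcyclic g M) (ψ : A →+* Coh.Γtop Y) (n : ℕ) :
    (@Module.Finite A (Coh.HH Y ((Scheme.Modules.pushforward g).obj M) n) _ _
        (Module.compHom (Coh.HH Y ((Scheme.Modules.pushforward g).obj M) n) ψ)) ↔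
      @Module.Finite A (Coh.HH X M n) _ _
        (Module.compHom (Coh.HH X M n) ((gTop g).comp ψ)) := by
  obtain ⟨e, he⟩ := exists_pushEquiv g hM n
  letI := Module.compHom (Coh.HH X M n) ((gTop g).comp ψ)
  letI := Module.compHom (Coh.HH Y ((Scheme.Modules.pushforward g).obj M) n) ψ
  let L : Coh.HH X M n ≃ₗ[A] Coh.HH Y ((Scheme.Modules.pushforward g).obj M) n :=
    { e with map_smul' := fun a x => he (ψ a) x }
  exact ⟨fun h => @Module.Finite.equiv _ _ _ _ _ _ _ _ h L.symm,
    fun h => @Module.Finite.equiv _ _ _ _ _ _ _ _ h L⟩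

end Groth.Agent.ProperFin
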