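import Groth.Agent.ProjMap.Segre
import Groth.Agent.ProjMap.Pow
import Groth.Agent.CompleteCurve.ProjSpace
import Mathlib.AlgebraicGeometry.ZariskisMainTheorem

/-!
# Chow's lemma over an affine base
-/

set_option autoImplicit false
set_option backward.defeqAttrib.useBackward true

universe u

open CategoryTheory CategoryTheory.Limits AlgebraicGeometry TopologicalSpace MvPolynomial

noncomputable section

namespace Groth.Agent.ProperFin

/-- The scheme-theoretic image of an integral scheme is integral. -/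
theorem isIntegral_image {X Y : Scheme.{u}} (f : X ⟶ Y) [QuasiCompact f] [IsIntegral X] :
    IsIntegral f.image := by
  haveI : IrreducibleSpace f.image := by
    have h := ((IrreducibleSpace.isIrreducible_univ X).image f.toImage f.toImage.continuous.continuousOn).closure
    rw [Set.image_univ, f.toImage.denseRange.closure_eq] at h
    haveI : Nonempty f.image := ⟨f.toImage (Classical.arbitrary X)⟩
    exact { toPreirreducibleSpace := ⟨h.isPreirreducible⟩, toNonempty := inferInstance }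
  haveI : IsReduced f.image := by
    haveI : ∀ x, _root_.IsReduced (f.image.presheaf.stalk x) := fun x => by
      obtain ⟨_, ⟨U : Y.Opens, hU, rfl⟩, hxU, -⟩ :=
        Y.isBasis_affineOpens.exists_subset_of_mem_open (Set.mem_univ (f.imageι x)) isOpen_univ
      haveI : _root_.IsReduced Γ(f.image, f.imageι ⁻¹ᵁ U) :=
        isReduced_of_injective _ (f.toImage_app_injective ⟨U, hU⟩)
      letI := f.image.presheaf.algebra_section_stalk (⟨x, hxU⟩ : ↥(f.imageι ⁻¹ᵁ U))
      haveI := (hU.preimage f.imageι).isLocalization_stalk ⟨x, hxU⟩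
      exact isReduced_localizationPreserves ((hU.preimage f.imageι).primeIdealOf ⟨x, hxU⟩).asIdeal.primeCompl _
        inferInstance
    exact isReduced_of_isReduced_stalk _
  exact isIntegral_of_irreducibleSpace_of_isReduced _

variable {A : Type u} [CommRing A]

/-- A finite product of projective spaces as a closed subscheme of one. -/
theorem exists_segreProd : ∀ (r : ℕ) (n : Fin r → ℕ), ∃ (N : ℕ) (P : Scheme.{u})
    (s : P ⟶ Spec (CommRingCat.of A)) (ι : P ⟶ CohB1.ProjSpace N A),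
    IsClosedImmersion ι ∧ ι ≫ CohB1.ProjSpace.toSpec N A = s ∧
      ∃ pr : ∀ k, P ⟶ CohB1.ProjSpace (n k) A, (∀ k, pr k ≫ CohB1.ProjSpace.toSpec (n k) A = s) ∧
        ∀ (T : Scheme.{u}) (t : T ⟶ Spec (CommRingCat.of A)) (f : ∀ k, T ⟶ CohB1.ProjSpace (n k) A),
          (∀ k, f k ≫ CohB1.ProjSpace.toSpec (n k) A = t) → ∃ l : T ⟶ P, l ≫ s = t ∧ ∀ k, l ≫ pr k = f k := by
  intro r
  induction r with
  | zero =>
    intro n
    haveI := ProjMap.isIso_toSpec_zero A
    exact ⟨0, Spec (CommRingCat.of A), 𝟙 _, inv (CohB1.ProjSpace.toSpec 0 A), inferInstance,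
      IsIso.inv_hom_id _, fun k => k.elim0, fun k => k.elim0,
      fun T t f _ => ⟨t, Category.comp_id _, fun k => k.elim0⟩⟩
  | succ r ih =>
    intro n
    obtain ⟨N, P, s, ι, hι, hs, pr, hpr, hlift⟩ := ih fun k => n k.succ
    let N' := (n 0 + 1) * (N + 1) - 1
    let e : Fin (n 0 + 1) × Fin (N + 1) ≃ Fin (N' + 1) := finProdFinEquiv.trans
      (finCongr (Nat.succ_pred_eq_of_pos (Nat.mul_pos (n 0).succ_pos N.succ_pos)).symm)
    let m : pullback (CohB1.ProjSpace.toSpec (n 0) A) s ⟶ ProjMap.prodPP A (n 0) N :=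
      pullback.map _ _ _ _ (𝟙 _) ι (𝟙 _) (by simp) (by simp [hs])
    haveI : IsClosedImmersion m := by
      have h := IsPullback.of_hasPullback (CohB1.ProjSpace.toSpec (n 0) A) (CohB1.ProjSpace.toSpec N A)
      have h' : IsPullback m (pullback.snd _ _) (pullback.snd _ _) ι := by
        refine IsPullback.of_right ?_ (pullback.lift_snd _ _ _) h
        rw [show m ≫ pullback.fst _ _ = pullback.fst _ _ from
          (pullback.lift_fst _ _ _).trans (Category.comp_id _), hs]
        exact IsPullback.of_hasPullback _ _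
      exact MorphismProperty.of_isPullback h'.flip hι
    haveI := ProjMap.isClosedImmersion_segre A e
    refine ⟨N', pullback (CohB1.ProjSpace.toSpec (n 0) A) s, pullback.snd _ _ ≫ s, m ≫ ProjMap.segre A e,
      inferInstance, ?_, Fin.cases (pullback.fst _ _) fun k => pullback.snd _ _ ≫ pr k, ?_, ?_⟩
    · rw [Category.assoc, ProjMap.segre, ProjMap.bilinMap_toSpec]
      exact ((pullback.lift_fst_assoc _ _ _ _).trans (by rw [Category.comp_id])).trans pullback.condition
    · refine Fin.cases pullback.condition fun k => ?_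
      simp [hpr]
    · intro T t f hf
      obtain ⟨l, hl, hlk⟩ := hlift T t (fun k => f k.succ) fun k => hf k.succ
      refine ⟨pullback.lift (f 0) l ((hf 0).trans hl.symm), by rw [pullback.lift_snd_assoc, hl], ?_⟩
      refine Fin.cases (pullback.lift_fst _ _ _) fun k => ?_
      simp only [Fin.cases_succ]
      rw [pullback.lift_snd_assoc, hlk]

variable {Z : Scheme.{u}} (p : Z ⟶ Spec (CommRingCat.of A))

/-- An affine open of finite type is closed in the first chart of a projective space. -/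
theorem exists_chartEmb [LocallyOfFiniteType p] {U : Z.Opens} (hU : IsAffineOpen U) :
    ∃ (n : ℕ) (c : U.toScheme ⟶ Spec (CommRingCat.of
        (HomogeneousLocalization.Away (CohB1.polyGrading n A) (X 0 : MvPolynomial (Fin (n + 1)) A)))),
      IsClosedImmersion c ∧ c ≫ ProjMap.chart 0 ≫ CohB1.ProjSpace.toSpec n A = U.ι ≫ p := by
  let φ : CommRingCat.of A ⟶ Γ(Z, U) := Spec.preimage (hU.fromSpec ≫ p)
  have hft : φ.hom.FiniteType :=
    HasRingHomProperty.Spec_iff (P := @LocallyOfFiniteType).1 (by rw [Spec.map_preimage]; infer_instance)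
  letI : Algebra A Γ(Z, U) := φ.hom.toAlgebra
  haveI : Algebra.FiniteType A Γ(Z, U) := hft
  obtain ⟨m, g, hg⟩ := Algebra.FiniteType.iff_quotient_mvPolynomial''.1 ‹_›
  let v : Fin (m + 1) → Γ(Z, U) := Fin.cons 1 fun i => g (X i)
  have hc : IsUnit (aeval v (X 0 : MvPolynomial (Fin (m + 1)) A)) := by simp [v]
  have hv0 : IsUnit (v 0) := by simp [v]
  let E := ProjMap.evalAway (R := A) v (X 0) hc
  have hsurj : Function.Surjective E := by
    have hmk : ∀ d, E (HomogeneousLocalization.Away.mk (CohB1.polyGrading m A) (ProjMap.X_mem 0) 1 (X d)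
        (by simpa using ProjMap.X_mem (R := A) d)) = v d := fun d => by
      have h := ProjMap.evalAway_mk (v := v) (ProjMap.X_mem 0) hc 1 (X d) (by simpa using ProjMap.X_mem (R := A) d)
      simpa [v] using h
    intro b
    obtain ⟨q, rfl⟩ := hg b
    show g q ∈ E.range
    induction q using MvPolynomial.induction_on with
    | C a =>
      rw [← MvPolynomial.algebraMap_eq, AlgHom.commutes]
      exact ⟨_, ProjMap.evalAway_fromZero v (X 0) hc a⟩
    | add a b ha hb => rw [map_add]; exact add_mem ha hb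
    | mul_X a i ha =>
      rw [map_mul]
      exact mul_mem ha ⟨_, (hmk i.succ).trans (Fin.cons_succ _ _ _)⟩
  refine ⟨m, hU.isoSpec.hom ≫ Spec.map (CommRingCat.ofHom E), ?_, ?_⟩
  · haveI : IsClosedImmersion (Spec.map (CommRingCat.ofHom E)) := IsClosedImmersion.spec_of_surjective _ hsurj
    infer_instance
  · rw [Category.assoc, ← Category.assoc (Spec.map (CommRingCat.ofHom E))]
    show hU.isoSpec.hom ≫ ProjMap.point (R := A) v 0 hv0 ≫ _ = _
    rw [ProjMap.point_toSpec]
    show hU.isoSpec.hom ≫ Spec.map φ = _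
    rw [Spec.map_preimage, IsAffineOpen.fromSpec, Category.assoc, Iso.hom_inv_id_assoc]

/-- Chow's lemma for an integral proper scheme over an affine Noetherian base. -/
theorem exists_chow [IsNoetherianRing A] [IsIntegral Z] [IsProper p] :
    ∃ (X' : Scheme.{u}) (π : X' ⟶ Z) (N : ℕ) (q : X' ⟶ CohB1.ProjSpace N A),
      IsIntegral X' ∧ IsProper π ∧ IsClosedImmersion q ∧
        q ≫ CohB1.ProjSpace.toSpec N A = π ≫ p ∧
          ∃ U : Z.Opens, (U : Set Z).Nonempty ∧ IsIso (π ∣_ U) := by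
  haveI : CompactSpace Z := QuasiCompact.compactSpace_of_compactSpace p
  haveI : Z.IsSeparated := ⟨by
    rw [← terminal.comp_from p]
    infer_instance⟩
  obtain ⟨r, V, hVaff, hVne, hVcov⟩ : ∃ (r : ℕ) (V : Fin r → Z.Opens), (∀ k, IsAffineOpen (V k)) ∧
      (∀ k, (V k : Set Z).Nonempty) ∧ ∀ z, ∃ k, z ∈ V k := by
    have h : ∀ z : Z, ∃ V : Z.Opens, IsAffineOpen V ∧ z ∈ V := fun z => by
      obtain ⟨_, ⟨V, hV, rfl⟩, hz, -⟩ :=
        Z.isBasis_affineOpens.exists_subset_of_mem_open (Set.mem_univ z) isOpen_univ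
      exact ⟨V, hV, hz⟩
    choose V hV hzV using h
    obtain ⟨t, ht⟩ := isCompact_univ.elim_finite_subcover (fun z => (V z : Set Z)) (fun z => (V z).2)
      fun z _ => Set.mem_iUnion.2 ⟨z, hzV z⟩
    refine ⟨t.card, fun k => V (t.equivFin.symm k).1, fun k => hV _, fun k => ⟨_, hzV _⟩, fun z => ?_⟩
    obtain ⟨a, ha, hza⟩ := Set.mem_iUnion₂.1 (ht (Set.mem_univ z))
    exact ⟨t.equivFin ⟨a, ha⟩, by simpa using hza⟩
  choose n c hc hcp using fun k => exists_chartEmb p (hVaff k)
  obtain ⟨U, hUaff, hUne, hUle⟩ : ∃ U : Z.Opens, IsAffineOpen U ∧ (U : Set Z).Nonempty ∧ ∀ k, U ≤ V k := by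
    have hη : ∀ k, genericPoint Z ∈ V k := fun k =>
      ((genericPoint_spec Z).mem_open_set_iff (V k).2).2 (by simpa using hVne k)
    obtain ⟨_, ⟨U, hU, rfl⟩, hη', hsub⟩ := Z.isBasis_affineOpens.exists_subset_of_mem_open
      (Set.mem_iInter.2 hη) (isOpen_iInter_of_finite fun k => (V k).2)
    exact ⟨U, hU, ⟨_, hη'⟩, fun k => hsub.trans (Set.iInter_subset _ k)⟩
  obtain ⟨N, P, s, ι, hι, hs, pr, hpr, hlift⟩ := exists_segreProd (A := A) r n
  let h : ∀ k, (V k).toScheme ⟶ CohB1.ProjSpace (n k) A := fun k => c k ≫ ProjMap.chart 0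
  obtain ⟨l, hl, hlk⟩ := hlift U.toScheme (U.ι ≫ p) (fun k => Z.homOfLE (hUle k) ≫ h k) fun k => by
    simp only [h, Category.assoc]
    rw [hcp, Scheme.homOfLE_ι_assoc]
  let G : U.toScheme ⟶ pullback p s := pullback.lift U.ι l hl.symm
  haveI : Nonempty U := ⟨⟨_, hUne.some_mem⟩⟩
  haveI : IsAffine U.toScheme := hUaff
  haveI : IsProper s := hs ▸ inferInstance
  haveI : QuasiCompact G := by
    haveI : QuasiCompact (G ≫ pullback.fst p s ≫ p) := by
      rw [pullback.lift_fst_assoc]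
      exact (HasAffineProperty.iff_of_isAffine (P := @QuasiCompact)).2 inferInstance
    exact QuasiCompact.of_comp G (pullback.fst p s ≫ p)
  haveI : IsIntegral G.image := isIntegral_image G
  let π : G.image ⟶ Z := G.imageι ≫ pullback.fst p s
  haveI : IsProper π := inferInstance
  let P' : G.image ⟶ P := G.imageι ≫ pullback.snd p s
  let Q : ∀ k, G.image ⟶ CohB1.ProjSpace (n k) A := fun k => P' ≫ pr k
  have hPs : P' ≫ s = π ≫ p := by
    simp only [P', π, Category.assoc, pullback.condition]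
  have hQ : ∀ k, Q k ≫ CohB1.ProjSpace.toSpec (n k) A = π ≫ p := fun k => by
    simp only [Q, Category.assoc, hpr, hPs]
  have hσπ : G.toImage ≫ π = U.ι := by
    simp only [π, G, G.toImage_imageι_assoc, pullback.lift_fst]
  have hagree : ∀ k, (π ∣_ V k) ≫ h k = (π ⁻¹ᵁ V k).ι ≫ Q k := fun k => by
    have hle : ∀ x : U.toScheme, G.toImage x ∈ π ⁻¹ᵁ V k := fun x => by
      show π (G.toImage x) ∈ V k
      rw [← Scheme.Hom.comp_apply, hσπ]
      exact hUle k x.2
    let a : U.toScheme ⟶ (π ⁻¹ᵁ V k).toScheme :=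
      IsOpenImmersion.lift (π ⁻¹ᵁ V k).ι G.toImage (by
        rw [Scheme.Opens.range_ι]
        exact Set.range_subset_iff.2 hle)
    haveI : IsDominant a := ⟨by
      rw [DenseRange, dense_iff_inter_open]
      intro W hW ⟨w, hw⟩
      obtain ⟨_, ⟨y, hyW, rfl⟩, ⟨x, hx⟩⟩ := dense_iff_inter_open.1 G.toImage.denseRange _
        ((π ⁻¹ᵁ V k).2.isOpenMap_subtype_val _ hW) ⟨_, w, hw, rfl⟩
      refine ⟨a x, ?_, x, rfl⟩
      have e : ((π ⁻¹ᵁ V k).ι (a x)) = G.toImage x := by
        rw [← Scheme.Hom.comp_apply, IsOpenImmersion.lift_fac]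
      have : a x = y := Subtype.ext (e.trans hx)
      exact this ▸ hyW⟩
    refine ext_of_isDominant_of_isSeparated (CohB1.ProjSpace.toSpec (n k) A) ?_ a ?_
    · simp only [h, Category.assoc, hcp, hQ]
      rw [morphismRestrict_ι_assoc]
    · have e1 : a ≫ (π ∣_ V k) = Z.homOfLE (hUle k) := by
        rw [← cancel_mono (V k).ι, Category.assoc, morphismRestrict_ι, Scheme.homOfLE_ι,
          IsOpenImmersion.lift_fac_assoc, hσπ]
      rw [reassoc_of% e1, IsOpenImmersion.lift_fac_assoc]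
      simp only [Q, P', Category.assoc]
      rw [Scheme.Hom.toImage_imageι_assoc, pullback.lift_snd_assoc, hlk]
  have hpre : ∀ k, Q k ⁻¹ᵁ (ProjMap.chart (R := A) 0).opensRange = π ⁻¹ᵁ V k := fun k => by
    let W := Q k ⁻¹ᵁ (ProjMap.chart (R := A) 0).opensRange
    have hle : π ⁻¹ᵁ V k ≤ W := fun x hx => by
      show Q k x ∈ (ProjMap.chart (R := A) 0).opensRange
      have e := congr($(hagree k) ⟨x, hx⟩)
      rw [Scheme.Hom.comp_apply, Scheme.Hom.comp_apply] at e
      exact e ▸ ⟨c k ((π ∣_ V k) ⟨x, hx⟩), rfl⟩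
    let b := IsOpenImmersion.lift (ProjMap.chart (R := A) 0) (W.ι ≫ Q k) (by
      rintro _ ⟨x, rfl⟩
      exact x.2)
    have hb : G.image.homOfLE hle ≫ b = (π ∣_ V k) ≫ c k := by
      rw [← cancel_mono (ProjMap.chart (R := A) 0), Category.assoc, Category.assoc,
        IsOpenImmersion.lift_fac, Scheme.homOfLE_ι_assoc]
      exact (hagree k).symm
    haveI : IsSeparated b := by
      haveI : IsSeparated (b ≫ ProjMap.chart (R := A) 0) := by
        rw [IsOpenImmersion.lift_fac]
        haveI : IsSeparated (Q k ≫ CohB1.ProjSpace.toSpec (n k) A) := by rw [hQ]; infer_instance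
        haveI : IsSeparated (Q k) := IsSeparated.of_comp _ (CohB1.ProjSpace.toSpec (n k) A)
        infer_instance
      exact IsSeparated.of_comp b (ProjMap.chart (R := A) 0)
    haveI : IsProper (G.image.homOfLE hle ≫ b) := by rw [hb]; infer_instance
    haveI : IsProper (G.image.homOfLE hle) := IsProper.of_comp _ b
    refine le_antisymm (fun x hx => ?_) hle
    by_contra hx'
    obtain ⟨z, hz⟩ : ∃ z : G.image, π z ∈ U := ⟨G.toImage ⟨_, hUne.some_mem⟩, by
      rw [← Scheme.Hom.comp_apply, hσπ]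
      exact hUne.some_mem⟩
    have hcl : IsClosed (Set.range (G.image.homOfLE hle)) :=
      (G.image.homOfLE hle).isClosedMap.isClosed_range
    obtain ⟨O, hO, hOeq⟩ := isOpen_induced_iff.1 hcl.isOpen_compl
    have h1 : x ∈ O := by
      have : (⟨x, hx⟩ : W) ∈ (Set.range (G.image.homOfLE hle))ᶜ := by
        rintro ⟨y, hy⟩
        have e := congr(W.ι $hy)
        rw [← Scheme.Hom.comp_apply, Scheme.homOfLE_ι] at e
        exact hx' (show x ∈ π ⁻¹ᵁ V k from (show y.1 = x from e) ▸ y.2)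
      rw [← hOeq] at this
      exact this
    obtain ⟨y, ⟨hy1, hy2⟩, hy3⟩ := nonempty_preirreducible_inter (hO.inter W.2)
      (π ⁻¹ᵁ V k).2 ⟨x, h1, hx⟩ ⟨z, hUle k hz⟩
    have : (⟨y, hy2⟩ : W) ∈ (Set.range (G.image.homOfLE hle))ᶜ := hOeq ▸ hy1
    refine this ⟨⟨y, hy3⟩, Subtype.ext ?_⟩
    show W.ι ((G.image.homOfLE hle) ⟨y, hy3⟩) = y
    rw [← Scheme.Hom.comp_apply, Scheme.homOfLE_ι]
    rfl
  let q : G.image ⟶ CohB1.ProjSpace N A := P' ≫ ι
  have hq : q ≫ CohB1.ProjSpace.toSpec N A = π ≫ p := by simp only [q, Category.assoc, hs, hPs]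
  haveI : IsProper (q ≫ CohB1.ProjSpace.toSpec N A) := hq ▸ inferInstance
  haveI : IsProper q := IsProper.of_comp q (CohB1.ProjSpace.toSpec N A)
  haveI : Mono q := ⟨fun {T} a b hab => by
    have hP : a ≫ P' = b ≫ P' := by
      rw [← cancel_mono ι, Category.assoc, Category.assoc]
      exact hab
    have hπ : a ≫ π = b ≫ π := by
      refine Scheme.Cover.hom_ext (T.openCoverOfIsOpenCover (fun k => a ⁻¹ᵁ (π ⁻¹ᵁ V k))
        (TopologicalSpace.IsOpenCover.mk (top_le_iff.1 fun t _ =>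
          Opens.mem_iSup.2 (hVcov (π (a t)))))) _ _ fun k => ?_
      show (a ⁻¹ᵁ (π ⁻¹ᵁ V k)).ι ≫ a ≫ π = (a ⁻¹ᵁ (π ⁻¹ᵁ V k)).ι ≫ b ≫ π
      have hab' : b ⁻¹ᵁ (π ⁻¹ᵁ V k) = a ⁻¹ᵁ (π ⁻¹ᵁ V k) := by
        rw [← hpre k, ← Scheme.Hom.comp_preimage, ← Scheme.Hom.comp_preimage]
        simp only [Q, ← Category.assoc, hP]
      let a' := IsOpenImmersion.lift (π ⁻¹ᵁ V k).ι ((a ⁻¹ᵁ (π ⁻¹ᵁ V k)).ι ≫ a) (by
        rw [Scheme.Opens.range_ι]
        rintro _ ⟨x, rfl⟩
        exact x.2)
      let b' := IsOpenImmersion.lift (π ⁻¹ᵁ V k).ι ((a ⁻¹ᵁ (π ⁻¹ᵁ V k)).ι ≫ b) (by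
        rw [Scheme.Opens.range_ι]
        rintro _ ⟨x, rfl⟩
        exact (show x.1 ∈ b ⁻¹ᵁ (π ⁻¹ᵁ V k) from hab'.symm ▸ x.2))
      have key : a' ≫ (π ∣_ V k) = b' ≫ (π ∣_ V k) := by
        haveI : Mono (h k) := inferInstance
        rw [← cancel_mono (h k), Category.assoc, Category.assoc, hagree,
          IsOpenImmersion.lift_fac_assoc, IsOpenImmersion.lift_fac_assoc]
        simp only [Q, Category.assoc, reassoc_of% hP]
      have := congrArg (· ≫ (V k).ι) key
      simpa only [Category.assoc, morphismRestrict_ι, a', b', IsOpenImmersion.lift_fac_assoc] using this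
    rw [← cancel_mono G.imageι]
    apply pullback.hom_ext
    · simpa only [Category.assoc] using hπ
    · simpa only [Category.assoc] using hP⟩
  refine ⟨G.image, π, N, q, inferInstance, inferInstance,
    (IsClosedImmersion.iff_isProper_and_mono q).2 ⟨inferInstance, inferInstance⟩, hq, U, hUne, ?_⟩
  let σ : U.toScheme ⟶ (π ⁻¹ᵁ U).toScheme := IsOpenImmersion.lift (π ⁻¹ᵁ U).ι G.toImage (by
    rw [Scheme.Opens.range_ι]
    rintro _ ⟨x, rfl⟩
    show π (G.toImage x) ∈ U
    rw [← Scheme.Hom.comp_apply, hσπ]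
    exact x.2)
  have hσ : σ ≫ (π ∣_ U) = 𝟙 _ := by
    rw [← cancel_mono U.ι, Category.assoc, morphismRestrict_ι, IsOpenImmersion.lift_fac_assoc, hσπ,
      Category.id_comp]
  haveI : IsDominant σ := ⟨by
    rw [DenseRange, dense_iff_inter_open]
    intro W hW ⟨w, hw⟩
    obtain ⟨_, ⟨y, hyW, rfl⟩, ⟨x, hx⟩⟩ := dense_iff_inter_open.1 G.toImage.denseRange _
      ((π ⁻¹ᵁ U).2.isOpenMap_subtype_val _ hW) ⟨_, w, hw, rfl⟩
    refine ⟨σ x, ?_, x, rfl⟩
    have e : ((π ⁻¹ᵁ U).ι (σ x)) = G.toImage x := by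
      rw [← Scheme.Hom.comp_apply, IsOpenImmersion.lift_fac]
    have : σ x = y := Subtype.ext (e.trans hx)
    exact this ▸ hyW⟩
  refine ⟨σ, ?_, hσ⟩
  refine ext_of_isDominant_of_isSeparated (π ∣_ U) ?_ σ ?_
  · rw [Category.assoc, hσ, Category.comp_id, Category.id_comp]
  · rw [← Category.assoc, hσ, Category.id_comp, Category.comp_id]

end Groth.Agent.ProperFin
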