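import Groth.Agent.CohBase.LerayOn
import Groth.Agent.CohBase.Localization
import Mathlib.AlgebraicGeometry.Modules.Sheaf

/-!
# Exactness of Čech complexes from an open subscheme
-/

set_option autoImplicit false

universe u

open CategoryTheory CategoryTheory.Limits AlgebraicGeometry TopologicalSpace Opposite
open Groth.Agent.CohBase

noncomputable section

namespace Groth.Agent.ProperFin

variable {X Y : Scheme.{u}} (j : Y ⟶ X) [IsOpenImmersion j] (M : X.Modules)

/-- Sections of the inverse image along an open immersion. -/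
def pbSec (W : Y.Opens) : Γ(M, j ''ᵁ W) ≃+ Γ((Scheme.Modules.pullback j).obj M, W) :=
  (M.restrictAppIso j W).symm.addCommGroupIsoToAddEquiv.trans
    ((((Scheme.Modules.toPresheaf Y).mapIso ((Scheme.Modules.restrictFunctorIsoPullback j).app M)).app
      (op W)).addCommGroupIsoToAddEquiv)

lemma pbSec_res {W W' : Y.Opens} (h : W' ≤ W) (s : Γ(M, j ''ᵁ W)) :
    pbSec j M W' (M.presheaf.map (homOfLE (j.image_mono h)).op s) =
      ((Scheme.Modules.pullback j).obj M).presheaf.map (homOfLE h).op (pbSec j M W s) :=
  congr($(((Scheme.Modules.restrictFunctorIsoPullback j).app M).hom.mapPresheaf.naturality (homOfLE h).op) s)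

lemma pbSec_smul (W : Y.Opens) (r : Γ(X, j ''ᵁ W)) (s : Γ(M, j ''ᵁ W)) :
    pbSec j M W (r • s) = (j.appIso W).hom r • pbSec j M W s := by
  refine Eq.trans (congrArg (fun y => ((Scheme.Modules.restrictFunctorIsoPullback j).app M).hom.app W y) ?_)
    (Scheme.Modules.Hom.app_smul ((Scheme.Modules.restrictFunctorIsoPullback j).app M).hom ((j.appIso W).hom r)
      ((M.restrictAppIso j W).inv s))
  exact congr($(M.smul_restrictAppIso_inv j W r).hom s)

variable {ι : Type u} {U : ι → Y.Opens} {U' : ι → X.Opens}

lemma inter_image (h : ∀ a, U' a = j ''ᵁ U a) {n : ℕ} (i : Fin (n + 1) → ι) :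
    inter U' i = j ''ᵁ inter U i := by
  refine le_antisymm (fun x hx => ?_) (le_iInf fun a => ?_)
  · have h0 := inter_le U' i 0 hx
    rw [h] at h0
    obtain ⟨y, -, rfl⟩ := h0
    refine ⟨y, (mem_inter_iff U).2 fun a => ?_, rfl⟩
    have ha := inter_le U' i a hx
    rw [h] at ha
    obtain ⟨y', hy', e⟩ := ha
    exact j.isOpenEmbedding.injective e ▸ hy'
  · rw [h]
    exact j.image_mono (inter_le U i a)

/-- Exactness of the Čech complex of the inverse image gives exactness upstairs. -/
theorem cexact_of_pullback (h : ∀ a, U' a = j ''ᵁ U a) {n : ℕ}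
    (hex : CExact U ((Scheme.Modules.pullback j).obj M).presheaf n) : CExact U' M.presheaf n := by
  let e : ∀ {m : ℕ} (i : Fin (m + 1) → ι),
      Γ(M, inter U' i) ≃+ Γ((Scheme.Modules.pullback j).obj M, inter U i) := fun {m} i =>
    ({ toFun := res M.presheaf (inter_image j h i).ge
       invFun := res M.presheaf (inter_image j h i).le
       left_inv := fun s => by rw [res_res, res_self]
       right_inv := fun s => by rw [res_res, res_self]
       map_add' := map_add _ } : Γ(M, inter U' i) ≃+ Γ(M, j ''ᵁ inter U i)).trans (pbSec j M (inter U i))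
  have he : ∀ {m : ℕ} (c : CC U' M.presheaf m) (i : Fin (m + 2) → ι),
      e i (cdiff U' M.presheaf m c i) =
        cdiff U ((Scheme.Modules.pullback j).obj M).presheaf m (fun i => e i (c i)) i := fun {m} c i => by
    rw [cdiff_apply, cdiff_apply, map_sum]
    refine Finset.sum_congr rfl fun k _ => ?_
    rw [map_zsmul]
    congr 1
    show pbSec j M _ (res M.presheaf _ (res M.presheaf _ (c (i ∘ k.succAbove)))) =
      ((Scheme.Modules.pullback j).obj M).presheaf.map (homOfLE (inter_comp_le U i k.succAbove)).op
        (pbSec j M _ (res M.presheaf _ (c (i ∘ k.succAbove))))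
    rw [← pbSec_res, res_res]
    exact congrArg (pbSec j M _) (res_res M.presheaf _ _ _).symm
  intro c hc
  obtain ⟨b, hb⟩ := hex (fun i => e i (c i)) (funext fun i => by
    rw [← he, congrFun hc i]
    exact map_zero (e i))
  refine ⟨fun i => (e i).symm (b i), funext fun i => (e i).injective ?_⟩
  rw [he]
  simp only [AddEquiv.apply_symm_apply]
  exact congrFun hb i

end Groth.Agent.ProperFin
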